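import Groth.Agent.PicTau.Fibre
import Groth.Agent.HilbPoly.Tensor
import Groth.Agent.FlatDescent.FibreDepth.Ring
import Groth.Agent.FlatDescent.RestrictFlat
import Groth.Agent.NegVanish.Main
import Groth.Prelude.Def_Pic13
import Mathlib.AlgebraicGeometry.AlgClosed.Basic
import Mathlib.AlgebraicGeometry.Morphisms.Proper

/-!
# The Euler characteristic is constant in a connected family of invertible modules on a proper scheme
-/

universe u

open CategoryTheory CategoryTheory.Limits AlgebraicGeometry Opposite TopologicalSpace TensorProduct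

set_option autoImplicit false
set_option linter.style.haveILetI false
set_option backward.isDefEq.respectTransparency false
set_option maxHeartbeats 1600000

namespace Groth.Agent.PicTau

open Module

theorem isFlatOver_of_isInvertible {X S : Scheme.{u}} (f : X ⟶ S) [Flat f] {M : X.Modules}
    (hM : PicF.IsInvertible M) : FlatMod.IsFlatOver f M := fun x => by
  obtain ⟨U, hx, ⟨e⟩⟩ := hM x
  exact (Groth.FlatDescent.isFlatOverAt_restrict U.ι f M ⟨x, hx⟩).mp
    ((Groth.FlatDescent.isFlatOverAt_congr e (U.ι ≫ f) ⟨x, hx⟩).mpr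
      (Groth.FlatDescent.FibreDepth.isFlatOver_structureModule (U.ι ≫ f) ⟨x, hx⟩))

variable (k : Type u) [Field k]

/-- On an affine base the Euler characteristic of the rational fibres is given by a locally constant function. -/
theorem exists_locallyConstant {A : Type u} [CommRing A] [IsNoetherianRing A] {P : Scheme.{u}}
    [P.Over (Spec (CommRingCat.of A))] [IsProper (P ↘ Spec (CommRingCat.of A))] (F : P.Modules)
    (hF : Coh.IsCoh F) (hfl : FlatMod.IsFlatOver (P ↘ Spec (CommRingCat.of A)) F) :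
    ∃ f : PrimeSpectrum A → ℤ, IsLocallyConstant f ∧
      ∀ (W : Scheme.{u}) [W.Over (Spec (CommRingCat.of k))] [IsProper (W ↘ Spec (CommRingCat.of k))]
        (g : W ⟶ P) (ι : k →+* A) (φ : A →+* k), φ.comp ι = RingHom.id k →
        IsPullback g (W ↘ Spec (CommRingCat.of k)) (P ↘ Spec (CommRingCat.of A)) (Spec.map (CommRingCat.ofHom φ)) →
        Curv2.euler k W ((Scheme.Modules.pullback g).obj F) = f ⟨RingHom.ker φ, RingHom.ker_isPrime φ⟩ := by
  classical
  obtain ⟨N, L, hL, hL0, hbig, huniv⟩ := exists_universal k F hF hfl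
  have hfin : ∀ i, Module.Finite A (L.X i) := fun i => (hL i).1
  let a : ℤ → PrimeSpectrum A → ℕ := fun q x => TFun.fibreDim (TFun.coker L (q + 1) q) x
  let c : ℤ → ℤ := fun q => (finrank A (L.X q) : ℤ)
  -- the dimensions of the homology of a fibre
  have hdimq : ∀ {κ : Type u} [Field κ] (φ : A →+* κ) (x : PrimeSpectrum A), RingHom.ker φ = x.asIdeal → ∀ q : ℤ,
      (finrank κ ((CohIII.bcCx φ L).homology q) : ℤ) = (a q x : ℤ) + (a (q - 1) x : ℤ) - c (q - 1) := by
    intro κ _ φ x hx q
    letI := φ.toAlgebra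
    haveI : Nontrivial A := φ.domain_nontrivial
    have h := TFun.finrank_bc_homology_add L φ hfin (r := q + 1) (p := q) (q := q - 1) rfl (by omega)
    rw [DCohPerf.finrank_tensor_eq_fibreDim φ _ x hx, DCohPerf.finrank_tensor_eq_fibreDim φ _ x hx] at h
    have h2 : TFun.fibreDim (L.X (q - 1)) x = finrank A (L.X (q - 1)) := by
      rw [← DCohPerf.finrank_tensor_eq_fibreDim φ _ x hx]
      haveI := (hL (q - 1)).2
      exact Module.finrank_baseChange
    rw [DCohPerf.finrank_tensor_eq_fibreDim φ _ x hx, h2] at h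
    simp only [a, c]
    rw [show q - 1 + 1 = q by omega]
    omega
  -- the top cokernel rank is locally constant
  have hsum : ∀ x : PrimeSpectrum A, (a (N + 1) x : ℤ) + (a N x : ℤ) = c N := fun x => by
    have h := hdimq (algebraMap A x.asIdeal.ResidueField) x (Ideal.ker_algebraMap_residueField _) ((N : ℤ) + 1)
    have hz : IsZero ((ModuleCat.restrictScalars.{u} (algebraMap A x.asIdeal.ResidueField)).obj
        ((CohIII.bcCx (algebraMap A x.asIdeal.ResidueField) L).homology ((N : ℤ) + 1))) :=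
      IsZero.of_iso (hbig _ (by omega) _) (bcHomologyIso (algebraMap A x.asIdeal.ResidueField) L _)
    haveI : Subsingleton ((CohIII.bcCx (algebraMap A x.asIdeal.ResidueField) L).homology ((N : ℤ) + 1)) := by
      have := ModuleCat.subsingleton_of_isZero hz
      exact this
    rw [Module.finrank_zero_of_subsingleton, show (N : ℤ) + 1 - 1 = N by omega] at h
    push_cast at h
    linarith
  have hlc : IsLocallyConstant (a N) := by
    refine (IsLocallyConstant.iff_exists_open _).2 fun x => ?_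
    have hcf : ∀ q : ℤ, Module.Finite A (TFun.coker L (q + 1) q) := fun q =>
      haveI := hfin q
      inferInstanceAs (Module.Finite A (L.X q ⧸ LinearMap.range (L.d (q + 1) q).hom))
    haveI := hcf N
    haveI := hcf (N + 1)
    obtain ⟨U, hU, hxU, h1⟩ := TFun.exists_isOpen_fibreDim_le (TFun.coker L ((N : ℤ) + 1) N) x
    obtain ⟨V, hV, hxV, h2⟩ := TFun.exists_isOpen_fibreDim_le (TFun.coker L ((N : ℤ) + 1 + 1) (N + 1)) x
    refine ⟨U ∩ V, hU.inter hV, ⟨hxU, hxV⟩, fun y hy => ?_⟩
    have e1 : a N y ≤ a N x := h1 y hy.1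
    have e2 : a (N + 1) y ≤ a (N + 1) x := h2 y hy.2
    have := hsum x
    have := hsum y
    omega
  let C : ℕ → ℤ := fun n => Nat.rec 0 (fun m r => -c (m : ℤ) - r) n
  refine ⟨fun x => (a N x : ℤ) + C N, hlc.comp fun n : ℕ => (n : ℤ) + C N, fun W _ _ g ι φ hι hsq => ?_⟩
  let x : PrimeSpectrum A := ⟨RingHom.ker φ, RingHom.ker_isPrime φ⟩
  let h : ℤ → ℤ := fun q => (finrank k ((CohIII.bcCx φ L).homology q) : ℤ)
  have hneg : ∀ q : ℤ, q < 0 → a q x = 0 := fun q hq => by
    have : Subsingleton (L.X q) := ModuleCat.subsingleton_of_isZero (hL0 q hq)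
    have : Subsingleton (TFun.coker L (q + 1) q) := Function.Surjective.subsingleton (Submodule.mkQ_surjective _)
    exact Module.finrank_zero_of_subsingleton
  have hcneg : ∀ q : ℤ, q < 0 → c q = 0 := fun q hq => by
    have : Subsingleton (L.X q) := ModuleCat.subsingleton_of_isZero (hL0 q hq)
    haveI : Nontrivial A := φ.domain_nontrivial
    simp only [c]
    rw [Module.finrank_zero_of_subsingleton, Nat.cast_zero]
  have hneg' : ∀ q : ℤ, q < 0 → h q = 0 := fun q hq => by
    rw [show h q = _ from hdimq φ x rfl q, hneg q hq, hneg (q - 1) (by omega), hcneg (q - 1) (by omega)]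
    simp
  have hS : ∀ n : ℕ, ∑ p ∈ Finset.range (n + 1), (-1 : ℤ) ^ p * h ((n : ℤ) - p) = (a n x : ℤ) + C n := by
    intro n
    induction n with
    | zero =>
      rw [Finset.sum_range_one]
      simp only [h, C, Nat.cast_zero, sub_zero, pow_zero, one_mul, Nat.rec_zero, add_zero]
      rw [hdimq φ x rfl, zero_sub, hneg (-1) (by omega), hcneg (-1) (by omega)]
      simp
    | succ n ih =>
      rw [Finset.sum_range_succ', show (∑ i ∈ Finset.range (n + 1), (-1 : ℤ) ^ (i + 1) *
          h (((n + 1 : ℕ) : ℤ) - ((i + 1 : ℕ) : ℤ))) = -∑ i ∈ Finset.range (n + 1), (-1 : ℤ) ^ i * h ((n : ℤ) - i) by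
        rw [← Finset.sum_neg_distrib]
        refine Finset.sum_congr rfl fun i _ => ?_
        rw [pow_succ, show ((n + 1 : ℕ) : ℤ) - ((i + 1 : ℕ) : ℤ) = (n : ℤ) - i by push_cast; ring]
        ring, ih]
      simp only [pow_zero, one_mul, Nat.cast_zero, sub_zero, h, C]
      rw [hdimq φ x rfl, show ((n + 1 : ℕ) : ℤ) - 1 = (n : ℤ) by push_cast; ring]
      ring
  obtain ⟨B, hB⟩ := HilbPoly.exists_bound k W
  have hG : ((Scheme.Modules.pullback g).obj F).IsQuasicoherent :=
    haveI := hF.1
    QCohLib.isQuasicoherent_pullback g F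
  show _ = (a N x : ℤ) + C N
  rw [← hS N, HilbPoly.euler_eq_sum (N := max B (N + 1)) fun n hn => hB _ hG n (le_of_max_le_left hn)]
  refine Eq.trans (Finset.sum_congr rfl fun p _ => ?_) (Finset.sum_subset
    (Finset.range_subset_range.mpr (le_max_right B (N + 1))) fun p _ hp => ?_).symm
  · rw [huniv W g ι φ hι hsq p ((N : ℤ) - p) (by omega)]
  · rw [hneg' ((N : ℤ) - p) (by simp at hp; omega), mul_zero]

variable {k}

/-- `χ(W, M_t)` does not depend on the rational point in a connected base. -/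
theorem euler_fibreMod_eq [IsAlgClosed k] {W : Scheme.{u}} [W.Over (Spec (CommRingCat.of k))]
    [IsProper (W ↘ Spec (CommRingCat.of k))] {T : Scheme.{u}} (q : T ⟶ Spec (CommRingCat.of k))
    [LocallyOfFiniteType q] [ConnectedSpace T] {M : (Pic13.prodK k W q).Modules} (hM : PicF.IsInvertible M)
    (t t₀ : Spec (CommRingCat.of k) ⟶ T) (ht : t ≫ q = 𝟙 _) (ht₀ : t₀ ≫ q = 𝟙 _) :
    Curv2.euler k W (Pic13.fibreMod k W q t ht M) = Curv2.euler k W (Pic13.fibreMod k W q t₀ ht₀ M) := by
  classical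
  let pt : (Spec (CommRingCat.of k) ⟶ T) → T := fun s => s (IsLocalRing.closedPoint k)
  let Val : T → ℤ → Prop := fun y v => ∃ O : T.Opens, y ∈ O ∧
    ∀ (s : Spec (CommRingCat.of k) ⟶ T) (hs : s ≫ q = 𝟙 _), pt s ∈ O →
      Curv2.euler k W (Pic13.fibreMod k W q s hs M) = v
  have hex : ∀ y : T, ∃ v, Val y v := by
    intro y
    obtain ⟨V, hV, hyV, -⟩ := exists_isAffineOpen_mem_and_subset (X := T) (x := y) (U := ⊤) trivial
    let A := Γ(T, V)
    let j : Spec A ⟶ T := hV.fromSpec
    let ι : CommRingCat.of k ⟶ A := Spec.preimage (j ≫ q)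
    haveI : LocallyOfFiniteType (Spec.map ι) := by rw [Spec.map_preimage]; infer_instance
    haveI : IsNoetherianRing A := by
      have h1 : RingHom.FiniteType ι.hom := (HasRingHomProperty.Spec_iff (P := @LocallyOfFiniteType)).mp inferInstance
      letI := ι.hom.toAlgebra
      haveI : Algebra.FiniteType k A := h1
      exact Algebra.FiniteType.isNoetherianRing k A
    letI : (Pic13.prodK k W (j ≫ q)).Over (Spec (CommRingCat.of A)) := ⟨pullback.snd _ _⟩
    haveI : IsProper (Pic13.prodK k W (j ≫ q) ↘ Spec (CommRingCat.of A)) :=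
      MorphismProperty.pullback_snd _ _ inferInstance
    haveI : Flat (Pic13.prodK k W (j ≫ q) ↘ Spec (CommRingCat.of A)) :=
      MorphismProperty.pullback_snd _ _ inferInstance
    let r : Pic13.prodK k W (j ≫ q) ⟶ Pic13.prodK k W q :=
      pullback.map _ _ _ _ (𝟙 W) j (𝟙 _) (by simp) (by simp)
    let F := (Scheme.Modules.pullback r).obj M
    have hFi : PicF.IsInvertible F := ProjUniv.isInvertible_pullback r hM
    haveI : IsLocallyNoetherian (Pic13.prodK k W (j ≫ q)) :=
      LocallyOfFiniteType.isLocallyNoetherian (Pic13.prodK k W (j ≫ q) ↘ Spec (CommRingCat.of A))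
    obtain ⟨f, hf, hval⟩ := exists_locallyConstant k (A := A) F (InvPow.isCoh_of_isInvertible hFi)
      (isFlatOver_of_isInvertible _ hFi)
    obtain ⟨x, hx⟩ : y ∈ Set.range j := by rw [hV.range_fromSpec]; exact hyV
    let O₁ : (Spec A).Opens := ⟨f ⁻¹' {f x}, hf {f x}⟩
    refine ⟨f x, j ''ᵁ O₁, ⟨x, rfl, hx⟩, fun s hs hsO => ?_⟩
    obtain ⟨x', hx', hx'e⟩ := hsO
    have hr : Set.range s ⊆ Set.range j := by
      rintro _ ⟨z, rfl⟩
      exact ⟨x', hx'e.trans (congrArg s (Subsingleton.elim _ _))⟩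
    let φ : A ⟶ CommRingCat.of k := Spec.preimage (IsOpenImmersion.lift j s hr)
    have hφ : Spec.map φ ≫ j = s := by rw [Spec.map_preimage]; exact IsOpenImmersion.lift_fac j s hr
    have hs' : Spec.map φ ≫ (j ≫ q) = 𝟙 _ := by rw [← Category.assoc, hφ, hs]
    have hφι : φ.hom.comp ι.hom = RingHom.id k := by
      have : ι ≫ φ = 𝟙 _ := Spec.map_injective (by
        rw [Spec.map_comp, Spec.map_id, show Spec.map ι = j ≫ q from Spec.map_preimage _, hs'])
      exact congrArg CommRingCat.Hom.hom this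
    let g := Pic13.sliceAt k W (j ≫ q) (Spec.map φ) hs'
    have hg1 : g ≫ pullback.fst _ _ = 𝟙 W := pullback.lift_fst _ _ _
    have hsq : IsPullback g (W ↘ Spec (CommRingCat.of k)) (pullback.snd (W ↘ Spec (CommRingCat.of k)) (j ≫ q))
        (Spec.map φ) := by
      refine IsPullback.of_right ?_ (pullback.lift_snd _ _ _) (IsPullback.of_hasPullback _ (j ≫ q)).flip.flip
      rw [hg1, hs']
      exact IsPullback.of_horiz_isIso ⟨by simp⟩
    have hgr : g ≫ r = Pic13.sliceAt k W q s hs := by
      refine pullback.hom_ext ?_ ?_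
      · simp [g, r, Pic13.sliceAt]
      · simp [g, r, Pic13.sliceAt, hφ]
    have he := hval W g ι.hom φ.hom hφι hsq
    rw [show Curv2.euler k W (Pic13.fibreMod k W q s hs M) = Curv2.euler k W ((Scheme.Modules.pullback g).obj F) from
      (HilbPoly.euler_congr ((Scheme.Modules.pullbackComp g r).app M ≪≫
        (Scheme.Modules.pullbackCongr hgr).app M)).symm, he]
    have hpt : (⟨RingHom.ker φ.hom, RingHom.ker_isPrime φ.hom⟩ : PrimeSpectrum A) = x' := by
      refine (PrimeSpectrum.ext ?_).trans (j.isOpenEmbedding.injective ((?_ : j (Spec.map φ (IsLocalRing.closedPoint k)) = j x')))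
      · show RingHom.ker φ.hom = Ideal.comap φ.hom (IsLocalRing.maximalIdeal k)
        rw [IsLocalRing.maximalIdeal_eq_bot]
        rfl
      · exact ((Scheme.Hom.comp_apply _ _ _).symm.trans (by rw [hφ])).trans hx'e.symm
    rw [hpt]
    exact hx'
  haveI : JacobsonSpace T := LocallyOfFiniteType.jacobsonSpace q
  have huniq : ∀ y v v', Val y v → Val y v' → v = v' := by
    rintro y v v' ⟨O, hy, hO⟩ ⟨O', hy', hO'⟩
    obtain ⟨z, hz, hzc⟩ := nonempty_inter_closedPoints (Z := ((O : Set T) ∩ (O' : Set T))) ⟨y, hy, hy'⟩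
      (O.2.inter O'.2).isLocallyClosed
    have hp : pt (pointOfClosedPoint q z hzc) = z := pointOfClosedPoint_apply q z hzc _
    rw [← hO _ (pointOfClosedPoint_comp q z hzc) (hp.symm ▸ hz.1), hO' _ _ (hp.symm ▸ hz.2)]
  choose cl hcl using hex
  have hloc : IsLocallyConstant cl := (IsLocallyConstant.iff_exists_open _).2 fun y => by
    obtain ⟨O, hy, hO⟩ := hcl y
    exact ⟨O, O.2, hy, fun y' hy' => huniq y' _ _ (hcl y') ⟨O, hy', hO⟩⟩
  have hval : ∀ (s : Spec (CommRingCat.of k) ⟶ T) (hs : s ≫ q = 𝟙 _),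
      Curv2.euler k W (Pic13.fibreMod k W q s hs M) = cl (pt s) := fun s hs => by
    obtain ⟨O, hy, hO⟩ := hcl (pt s)
    exact hO s hs hy
  rw [hval t ht, hval t₀ ht₀]
  exact hloc.apply_eq_of_preconnectedSpace _ _

end Groth.Agent.PicTau
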