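import Groth.Agent.BCCx.BC
import Groth.Agent.DCohPerf.FibreAlg
import Groth.Agent.TFun.Rank
import Groth.Agent.HilbPoly.Euler

/-!
# The Euler characteristic of the fibres of a flat proper family over an affine base, at rational points
-/

universe u

open CategoryTheory CategoryTheory.Limits AlgebraicGeometry Opposite TopologicalSpace TensorProduct HomologicalComplex

set_option autoImplicit false
set_option linter.style.haveILetI false
set_option backward.isDefEq.respectTransparency false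
set_option backward.isDefEq.respectTransparency.types false
set_option maxHeartbeats 1600000

namespace Groth.Agent.PicTau

open Groth.Agent.BCCx Groth.Agent.CechCmp

/-- Multiplication by a scalar through `TFun`. -/
theorem TFun_map_smul {A : Type u} [CommRing A] {ι : Type} {c : ComplexShape ι}
    (P : HomologicalComplex (ModuleCat.{u} A) c) (p : ι) (M : ModuleCat.{u} A) (a : A)
    (x : (CohIII.TFun P p).obj M) :
    (CohIII.TFun P p).map (a • 𝟙 M) x = a • x := by
  have h : CohIII.tensorMap P (a • 𝟙 M) = a • 𝟙 (CohIII.tensorObj P M) :=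
    HomologicalComplex.hom_ext _ _ fun i => ModuleCat.hom_ext (TensorProduct.ext' fun y z => by
      show y ⊗ₜ[A] (a • z) = a • (y ⊗ₜ[A] z)
      rw [TensorProduct.tmul_smul])
  show homologyMap (CohIII.tensorMap P (a • 𝟙 M)) p x = _
  rw [h]
  have h2 : (shortComplexFunctor (ModuleCat.{u} A) c p).map (a • 𝟙 (CohIII.tensorObj P M)) =
      a • 𝟙 ((CohIII.tensorObj P M).sc p) := by ext <;> rfl
  show ShortComplex.homologyMap ((shortComplexFunctor (ModuleCat.{u} A) c p).map (a • 𝟙 (CohIII.tensorObj P M))) x = _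
  rw [h2, ShortComplex.homologyMap_smul, ShortComplex.homologyMap_id]
  rfl

/-- `ρ(H(K ⊗ κ))` is `H(K ⊗ ρ κ)`. -/
noncomputable def bcHomologyIso {A : Type u} [CommRing A] {k : Type u} [Field k] (φ : A →+* k)
    (L : ChainComplex (ModuleCat.{u} A) ℤ) (q : ℤ) :
    (ModuleCat.restrictScalars.{u} φ).obj ((CohIII.bcCx φ L).homology q) ≅
      (CohIII.tensorObj L ((ModuleCat.restrictScalars.{u} φ).obj (ModuleCat.of k k))).homology q :=
  letI := φ.toAlgebra
  ((CohIII.bcCx φ L).sc q).mapHomologyIso (ModuleCat.restrictScalars.{u} φ) |>.symm ≪≫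
    (homologyFunctor _ _ q).mapIso
      (HomologicalComplex.Hom.isoOfComponents
        (C₁ := ((ModuleCat.restrictScalars.{u} φ).mapHomologicalComplex _).obj (CohIII.bcCx φ L))
        (C₂ := CohIII.tensorObj L ((ModuleCat.restrictScalars.{u} φ).obj (ModuleCat.of k k)))
        (fun i => LinearEquiv.toModuleIso
          (X₁ := (((ModuleCat.restrictScalars.{u} φ).mapHomologicalComplex _).obj (CohIII.bcCx φ L)).X i)
          (X₂ := (CohIII.tensorObj L ((ModuleCat.restrictScalars.{u} φ).obj (ModuleCat.of k k))).X i)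
          (@TensorProduct.comm A _ k (L.X i) _ _ φ.toAlgebra.toModule _))
        fun i j _ => ModuleCat.hom_ext (TensorProduct.ext' fun _ _ => rfl))

variable (k : Type u) [Field k]

/-- The dimensions of the cohomology of a rational fibre are those of a universal complex. -/
theorem exists_universal {A : Type u} [CommRing A] [IsNoetherianRing A] {P : Scheme.{u}}
    [P.Over (Spec (CommRingCat.of A))] [IsProper (P ↘ Spec (CommRingCat.of A))] (F : P.Modules)
    (hF : Coh.IsCoh F) (hfl : FlatMod.IsFlatOver (P ↘ Spec (CommRingCat.of A)) F) :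
    ∃ (N : ℕ) (L : ChainComplex (ModuleCat.{u} A) ℤ), (∀ i, Module.Finite A (L.X i) ∧ Module.Free A (L.X i)) ∧
      (∀ i < 0, IsZero (L.X i)) ∧
      (∀ q : ℤ, (N : ℤ) < q → ∀ M : ModuleCat.{u} A, IsZero ((CohIII.TFun L q).obj M)) ∧
      ∀ (W : Scheme.{u}) [W.Over (Spec (CommRingCat.of k))] (g : W ⟶ P) (ι : k →+* A) (φ : A →+* k),
        φ.comp ι = RingHom.id k →
        IsPullback g (W ↘ Spec (CommRingCat.of k)) (P ↘ Spec (CommRingCat.of A)) (Spec.map (CommRingCat.ofHom φ)) →
        ∀ (p : ℕ) (q : ℤ), (N : ℤ) - q = (p : ℤ) →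
          HilbPoly.hdim k W ((Scheme.Modules.pullback g).obj F) p =
            (Module.finrank k ((CohIII.bcCx φ L).homology q) : ℤ) := by
  classical
  obtain ⟨N, L, hL, hL0, hbig, h⟩ := exists_main' F hF hfl
  refine ⟨N, L, hL, hL0, hbig, fun W _ g ι φ hι hsq p q hpq => ?_⟩
  obtain ⟨e, -⟩ := h p q hpq
  haveI : F.IsQuasicoherent := hF.1
  haveI : CompactSpace P := QuasiCompact.compactSpace_of_compactSpace (P ↘ Spec (CommRingCat.of A))
  haveI : P.IsSeparated := ⟨by rw [← terminal.comp_from (P ↘ Spec (CommRingCat.of A))]; infer_instance⟩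
  obtain ⟨s, _, U, hcov, hU⟩ := exists_cover P
  letI : Algebra A k := φ.toAlgebra
  let G := (Scheme.Modules.pullback g).obj F
  haveI : G.IsQuasicoherent := QCohLib.isQuasicoherent_pullback g F
  obtain ⟨η⟩ := nonempty_bcIso hsq U F hU (p : ℤ)
  let K := cx (sysOf (A := A) U F)
  let K' := cx (sysOf (A := k) (fun i => g ⁻¹ᵁ U i) G)
  let k1 := ModuleCat.of k k
  let V := (ModuleCat.restrictScalars.{u} φ).obj k1
  have hcov' : ⨆ i, g ⁻¹ᵁ U i = ⊤ := by rw [← Scheme.Hom.preimage_iSup, hcov]; rfl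
  -- on the fibre
  let u₁ : Coh.HH W G p ≃ₗ[k] (CohIII.TFun K' (p : ℤ)).obj k1 :=
    (hhCx (A := k) (fun i => g ⁻¹ᵁ U i) hcov' (affine_preimage hsq U hU) G p).trans
      ((homologyFunctor _ _ (p : ℤ)).mapIso (HomologicalComplex.Hom.isoOfComponents
        (C₂ := CohIII.tensorObj K' k1)
        (fun i => LinearEquiv.toModuleIso (X₁ := K'.X i) (X₂ := (CohIII.tensorObj K' k1).X i)
          (TensorProduct.rid k (K'.X i)).symm)
        fun i j _ => ModuleCat.hom_ext (LinearMap.ext fun _ => rfl))).toLinearEquiv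
  let u₂ := (η.app k1).addCommGroupIsoToAddEquiv
  -- on the family
  haveI : ∀ M : ModuleCat.{u} A, IsIso (psiCx F U M) := fun M => isIso_psiCx F U hU M
  let u₃ : (CohIII.TFun K (p : ℤ)).obj V ≃ₗ[A] (CohIII.TFun L q).obj V :=
    (asIso (homologyMap (psiCx F U V) (p : ℤ))).toLinearEquiv.trans
      ((hhCx U hcov hU ((TA A F).obj V) p).symm.trans (e V))
  let u₄ := (bcHomologyIso φ L q).symm.toLinearEquiv
  let H := (CohIII.bcCx φ L).homology q
  let ψ : Coh.HH W G p ≃+ H := (u₁.toAddEquiv.trans u₂).trans (u₃.toAddEquiv.trans u₄.toAddEquiv)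
  have hsemi : ∀ (a : k) (x : (CohIII.TFun K' (p : ℤ)).obj k1),
      u₂ (a • x) = ι a • (show (CohIII.TFun K (p : ℤ)).obj V from u₂ x) := fun a x => by
    have hn := ConcreteCategory.congr_hom (η.hom.naturality (a • 𝟙 k1)) x
    have hm : (ModuleCat.restrictScalars.{u} φ).map (a • 𝟙 k1) = ι a • 𝟙 V := ModuleCat.hom_ext (LinearMap.ext fun (z : k) => by
      show a * z = φ (ι a) * z
      rw [show φ (ι a) = a from RingHom.congr_fun hι a])
    refine Eq.trans ?_ ((hn.trans ?_))
    · exact (congrArg u₂ (TFun_map_smul K' (p : ℤ) k1 a x)).symm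
    · show (CohIII.TFun K (p : ℤ)).map ((ModuleCat.restrictScalars.{u} φ).map (a • 𝟙 k1))
        (show (CohIII.TFun K (p : ℤ)).obj V from u₂ x) = _
      rw [hm]
      exact TFun_map_smul K (p : ℤ) V (ι a) _
  have hψ : ∀ (a : k) x, ψ (a • x) = a • ψ x := fun a x => by
    show u₄ (u₃ (u₂ (u₁ (a • x)))) = _
    rw [map_smul u₁, hsemi, map_smul u₃, map_smul u₄]
    show (φ (ι a)) • (show H from u₄ (u₃ (u₂ (u₁ x)))) = _
    rw [show φ (ι a) = a from RingHom.congr_fun hι a]
    rfl
  unfold HilbPoly.hdim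
  exact_mod_cast (ψ.toLinearEquiv hψ).finrank_eq

end Groth.Agent.PicTau
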