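import Groth.Agent.PicTau.ChiConst
import Groth.Agent.IntTh.Criteria
import Groth.Agent.CohFinite.DevissageGen
import Groth.Agent.BCCx.Length

/-!
# Modules τ-equivalent to zero have vanishing intersection numbers
-/

universe u

open CategoryTheory CategoryTheory.Limits AlgebraicGeometry Opposite TopologicalSpace

set_option autoImplicit false
set_option linter.style.haveILetI false
set_option backward.isDefEq.respectTransparency false
set_option maxHeartbeats 1600000

namespace Groth.Agent.PicTau

open InvBasic ProjUniv Groth.Agent.InvPow Groth.Agent.QCohLib Groth.Agent.HilbPoly Groth.Agent.CurveDeg Groth.Agent.CohFinite Groth.Agent.IntTh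

variable (k : Type u) [Field k] {X : Scheme.{u}} [X.Over (Spec (CommRingCat.of k))]
  [IsProper (X ↘ Spec (CommRingCat.of k))]

/-- On an integral closed subscheme the degree of an algebraically trivial module is zero. -/
theorem inumOn_single_of_algEquiv [IsAlgClosed k] {N : X.Modules} (h : Pic13.IsAlgEquivZero k X N)
    {W : Scheme.{u}} (j : W ⟶ X) [IsClosedImmersion j] : inumOn k j [N] = 0 := by
  obtain ⟨T, q, hT, hl, -, M, hM, t, t₀, ht, ht₀, ⟨e⟩, ⟨e₀⟩⟩ := h
  haveI := hT
  haveI := hl
  letI : W.Over (Spec (CommRingCat.of k)) := ⟨j ≫ (X ↘ Spec (CommRingCat.of k))⟩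
  haveI : IsProper (W ↘ Spec (CommRingCat.of k)) :=
    inferInstanceAs (IsProper (j ≫ (X ↘ Spec (CommRingCat.of k))))
  let r : Pic13.prodK k W q ⟶ Pic13.prodK k X q :=
    pullback.map _ _ _ _ j (𝟙 T) (𝟙 _) (Category.comp_id _) (by simp)
  have hr : ∀ (s : Spec (CommRingCat.of k) ⟶ T) (hs : s ≫ q = 𝟙 _),
      Pic13.sliceAt k W q s hs ≫ r = j ≫ Pic13.sliceAt k X q s hs := fun s hs => by
    refine pullback.hom_ext ?_ ?_
    · simp only [r, Pic13.sliceAt, pullback.map, Category.assoc, pullback.lift_fst, pullback.lift_fst_assoc,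
        Category.id_comp, Category.comp_id]
    · simp only [r, Pic13.sliceAt, pullback.map, Category.assoc, pullback.lift_snd, pullback.lift_snd_assoc,
        Category.comp_id]
      rfl
  have key : ∀ (s : Spec (CommRingCat.of k) ⟶ T) (hs : s ≫ q = 𝟙 _) {L : X.Modules}, (Pic13.fibreMod k X q s hs M ≅ L) →
      Curv2.euler k W ((Scheme.Modules.pullback j).obj L) =
        Curv2.euler k W (Pic13.fibreMod k W q s hs ((Scheme.Modules.pullback r).obj M)) := fun s hs L eL =>
    euler_congr ((Scheme.Modules.pullback j).mapIso eL.symm ≪≫ (Scheme.Modules.pullbackComp j _).app M ≪≫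
      (Scheme.Modules.pullbackCongr (hr s hs)).symm.app M ≪≫ ((Scheme.Modules.pullbackComp _ r).app M).symm)
  rw [inumOn_single k j N, key t ht e, euler_fibreMod_eq q (ProjUniv.isInvertible_pullback r hM) t t₀ ht ht₀,
    ← key t₀ ht₀ e₀]
  exact sub_eq_zero.mpr (euler_congr (QCohLib.pullbackUnitIso j))

/-- Dévissage: a module with zero degree on all integral closed subschemes. -/
theorem inum_single_eq_zero {N : X.Modules} (hN : PicF.IsInvertible N)
    (h : ∀ (W : Scheme.{u}) (j : W ⟶ X) [IsClosedImmersion j] [IsIntegral W], inumOn k j [N] = 0) :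
    ∀ {F : X.Modules}, Coh.IsCoh F → inum k [N] F = 0 := by
  haveI := isNoetherian_of_proper (X := X) k
  have hl : Inv [N] := Inv.cons hN fun _ h => absurd h List.not_mem_nil
  have hzero : ∀ M : X.Modules, IsZero M → inum k [N] M = 0 := fun M hM =>
    inum_eq_zero_of_dim k hl (isCoh_of_isZero hM) (by
      rw [support_eq_empty_of_isZero hM]
      exact (Order.krullDim_eq_bot_iff.mpr ⟨fun C => C.2.nonempty.elim fun z _ => z.2.elim⟩).trans_lt
        (WithBot.bot_lt_coe _))
  have main : ∀ (d : ℕ) (F : X.Modules), Coh.IsCoh F → topologicalKrullDim (CohB1.support F) < (d : WithBot ℕ∞) →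
      inum k [N] F = 0 := by
    intro d
    induction d with
    | zero => exact fun F hF hd => inum_eq_zero_of_dim k hl hF (hd.trans_le (by simp))
    | succ d ih =>
      intro F hF hd
      refine devissage_ext (fun M => inum k [N] M = 0)
        (fun M M' ⟨e⟩ h => (inum_congr k [N] e).symm.trans h) hzero (X' := CohB1.support F) ?_ ?_ F hF subset_rfl
      · intro S hS h₁ h₂ h₃ _ e₁ e₃
        rw [inum_additive k hl hS h₁ h₂ h₃, e₁, e₃, add_zero]
      · intro Z i _ _ hZ I ι hι hI hI0
        have hO : Coh.IsCoh ((Coh.push i).obj (Coh.structureModule Z)) :=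
          isCoh_push_ideal i (𝟙 _) (InvBasic.isQuasicoherent_structureModule _)
        have hPI := isCoh_push_ideal i ι hI
        let f : (Coh.push i).obj I ⟶ (Coh.push i).obj (Coh.structureModule Z) := (Coh.push i).map ι
        haveI : Mono f := by
          refine (mono_iff_app_injective f).mpr fun V => ?_
          exact (mono_iff_app_injective ι).mp hι (i ⁻¹ᵁ V)
        have hQ : Coh.IsCoh (cokernel f) := QCohLib.isCoh_cokernel f hPI.1 hO
        have hadd := inum_additive k hl (CohFinite.shortExact_cokernel f) hPI hO hQ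
        have hlen := stkLen_additive (CohFinite.shortExact_cokernel f) (i (genericPoint Z))
        obtain ⟨e⟩ := exists_residueField_equiv i ι hI0
        have h1 : stkLen ((Coh.push i).obj I) (i (genericPoint Z)) = 1 := by
          rw [stkLen, ← e.length_eq]
          exact BCCx.length_residueField
        change stkLen ((Coh.push i).obj (Coh.structureModule Z)) _ =
          stkLen ((Coh.push i).obj I) _ + stkLen (cokernel f) _ at hlen
        rw [stkLen_push_structureModule i, h1] at hlen
        have hnot : i (genericPoint Z) ∉ CohB1.support (cokernel f) :=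
          notMem_support_of_stkLen_eq_zero (by
            exact ((WithTop.add_left_inj (by simp)).mp (hlen.symm.trans (add_zero 1).symm)))
        have hsub : CohB1.support (cokernel f) ⊆ Set.range i :=
          (support_subset_of_epi (cokernel.π f)).trans (support_pushforward_subset i _)
        have hss : CohB1.support (cokernel f) ⊂ Set.range i := hsub.ssubset_of_ne fun e => hnot (e ▸ ⟨_, rfl⟩)
        have hirr : IsIrreducible (Set.range i) := by
          rw [← Set.image_univ]
          exact (IrreducibleSpace.isIrreducible_univ Z).image _ i.continuous.continuousOn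
        have hRd : topologicalKrullDim (Set.range i) < ((d + 1 : ℕ) : WithBot ℕ∞) := (HilbPoly.dim_mono hZ).trans_lt hd
        have hQd := HilbPoly.dim_lt_of_ssubset (QCohLib.isClosed_support hQ.2) hirr i.isClosedEmbedding.isClosed_range hss hRd
        have hQ0 := ih _ hQ hQd
        have hO0 : inum k [N] ((Coh.push i).obj (Coh.structureModule Z)) = 0 :=
          (inum_push k i hl _ (InvBasic.isQuasicoherent_structureModule _)).trans (h Z i)
        change inum k [N] ((Coh.push i).obj (Coh.structureModule Z)) =
          inum k [N] ((Coh.push i).obj I) + inum k [N] (cokernel f) at hadd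
        rw [hO0, hQ0, add_zero] at hadd
        exact hadd.symm
  intro F hF
  obtain ⟨D, hD⟩ := exists_dim_le k X
  exact main (D + 1) F hF ((hD _).trans_lt (by exact_mod_cast Nat.lt_succ_self D))

/-- Zero on `[N]` for all coherent modules means zero on every list starting with `N`. -/
theorem inum_cons_eq_zero {N : X.Modules} (h : ∀ {F : X.Modules}, Coh.IsCoh F → inum k [N] F = 0) :
    ∀ {l : List X.Modules}, Inv l → PicF.IsInvertible N → ∀ {F : X.Modules}, Coh.IsCoh F → inum k (N :: l) F = 0
  | [], _, _, _, hF => h hF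
  | A :: l, hl, hN, F, hF => by
    rw [inum_swap k hN hl.head, inum, inum_cons_eq_zero h hl.tail hN (HilbPoly.isCoh_tensorMod hF hl.head),
      inum_cons_eq_zero h hl.tail hN hF, sub_zero]

/-- A module with a trivial power (numerically, at every level) is trivial at every level. -/
theorem inum_cons_eq_zero_of_pow {L : X.Modules} (hL : PicF.IsInvertible L) {n : ℕ} (hn : 0 < n)
    (h : ∀ {F : X.Modules}, Coh.IsCoh F → inum k [CohB1.tensorPow L n] F = 0) :
    ∀ {l : List X.Modules}, Inv l → ∀ {F : X.Modules}, Coh.IsCoh F → inum k (L :: l) F = 0 := by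
  haveI := isNoetherian_of_proper (X := X) k
  obtain ⟨D, hD⟩ := exists_dim_le k X
  suffices key : ∀ c : ℕ, ∀ {l : List X.Modules}, Inv l → D ≤ l.length + c → ∀ {F : X.Modules}, Coh.IsCoh F →
      inum k (L :: l) F = 0 from fun {l} hl {F} hF => key D hl (by omega) hF
  intro c
  induction c with
  | zero =>
    intro l hl hlen F hF
    refine inum_eq_zero_of_dim k (hl.cons hL) hF ((hD _).trans_lt ?_)
    rw [List.length_cons]
    exact_mod_cast (show D < l.length + 1 by omega)
  | succ c ih =>
    intro l hl hlen F hF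
    have hmul : ∀ m : ℕ, inum k (CohB1.tensorPow L m :: l) F = (m : ℤ) * inum k (L :: l) F := by
      intro m
      induction m with
      | zero =>
        rw [Nat.cast_zero, zero_mul]
        exact inum_head_unit k l F
      | succ m ihm =>
        have hm := isInvertible_tensorPow hL m
        show inum k (CohB1.tensorMod (CohB1.tensorPow L m) L :: l) F = _
        rw [inum_head_tensor_eq k hm hL, ihm, inum_swap k hm hL, ih (hl.cons hm) (by simp; omega) hF]
        push_cast
        ring
    have h0 := hmul n
    rw [inum_cons_eq_zero k h hl (isInvertible_tensorPow hL n) hF] at h0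
    exact (mul_eq_zero.mp h0.symm).resolve_left (Int.natCast_ne_zero.mpr hn.ne')

/-- **τ-equivalence to zero** kills all intersection numbers. -/
theorem inum_eq_zero_of_tau [IsAlgClosed k] {L : X.Modules} (hL : PicF.IsInvertible L)
    (hτ : Pic13.IsTauEquivZero k X L) {l : List X.Modules} (hl : Inv l) {F : X.Modules} (hF : Coh.IsCoh F) :
    inum k (L :: l) F = 0 := by
  obtain ⟨n, hn, ha⟩ := hτ
  exact inum_cons_eq_zero_of_pow k hL hn
    (inum_single_eq_zero k (isInvertible_tensorPow hL n) fun W j _ _ => inumOn_single_of_algEquiv k ha j) hl hF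

/-- `χ(F ⊗ L) = χ(F)`. -/
theorem euler_tensor_of_tau [IsAlgClosed k] {L : X.Modules} (hL : PicF.IsInvertible L)
    (hτ : Pic13.IsTauEquivZero k X L) {F : X.Modules} (hF : Coh.IsCoh F) :
    Curv2.euler k X (CohB1.tensorMod F L) = Curv2.euler k X F :=
  sub_eq_zero.mp (inum_eq_zero_of_tau k hL hτ (fun _ h => absurd h List.not_mem_nil) hF (l := []))

theorem euler_tensor_pow_of_tau [IsAlgClosed k] {L : X.Modules} (hL : PicF.IsInvertible L)
    (hτ : Pic13.IsTauEquivZero k X L) : ∀ (m : ℕ) {F : X.Modules}, Coh.IsCoh F →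
    Curv2.euler k X (CohB1.tensorMod F (CohB1.tensorPow L m)) = Curv2.euler k X F
  | 0, F, _ => euler_congr (SecTwist.unitorR F)
  | m + 1, F, hF => by
    obtain ⟨a⟩ := nonempty_assoc F (isInvertible_tensorPow hL m) hL
    rw [show CohB1.tensorPow L (m + 1) = CohB1.tensorMod (CohB1.tensorPow L m) L from rfl, euler_congr a,
      euler_tensor_of_tau k hL hτ (HilbPoly.isCoh_tensorMod hF (isInvertible_tensorPow hL m)),
      euler_tensor_pow_of_tau hL hτ m hF]

theorem euler_tensor_inv_of_tau [IsAlgClosed k] {L L' : X.Modules} (hL : PicF.IsInvertible L)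
    (hLL' : ClSub.IsInverseOf L L') (hτ : Pic13.IsTauEquivZero k X L) : ∀ (m : ℕ) {F : X.Modules}, Coh.IsCoh F →
    Curv2.euler k X (CohB1.tensorMod F (CohB1.tensorPow L' m)) = Curv2.euler k X F := fun m F hF => by
  have hL' := NegVanish.isInvertible_of_inverse hL hLL'
  have hm := isInvertible_tensorPow hL m
  have hm' := isInvertible_tensorPow hL' m
  have h := euler_tensor_pow_of_tau k hL hτ m (HilbPoly.isCoh_tensorMod hF hm')
  obtain ⟨a⟩ := nonempty_assoc F hm' hm
  obtain ⟨c⟩ := ProjTwist.nonempty_tensorMod_comm (CohB1.tensorPow L' m) (CohB1.tensorPow L m)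
  obtain ⟨e⟩ := NegVanish.isInverseOf_pow hL hLL' m
  rw [euler_congr (a.symm ≪≫ (ProjTwist.nonempty_tensorMod_iso (Iso.refl F) (c ≪≫ e)).some ≪≫ SecTwist.unitorR F)] at h
  exact h.symm

/-- Degree zero on curves, multiplicatively: `L^m ⊗ H` is numerically `H`. -/
theorem numEq_pow_tensor [IsAlgClosed k] {L L' H : X.Modules} (hL : PicF.IsInvertible L) (hH : PicF.IsInvertible H)
    (hLL' : ClSub.IsInverseOf L L') (hτ : Pic13.IsTauEquivZero k X L) (m : ℕ) :
    NumEq k H (CohB1.tensorMod (CohB1.tensorPow L m) H) ∧ NumEq k H (CohB1.tensorMod (CohB1.tensorPow L' m) H) := by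
  have gen : ∀ {G : X.Modules}, PicF.IsInvertible G →
      (∀ {F : X.Modules}, Coh.IsCoh F → Curv2.euler k X (CohB1.tensorMod F G) = Curv2.euler k X F) →
      NumEq k H (CohB1.tensorMod G H) := by
    intro G hG h W j _ _ _
    haveI := isNoetherian_of_proper (X := X) k
    have hO : Coh.IsCoh ((Coh.push j).obj (Coh.structureModule W)) :=
      isCoh_push_ideal j (𝟙 _) (InvBasic.isQuasicoherent_structureModule _)
    have hl : ∀ {A : X.Modules}, PicF.IsInvertible A → Inv [A] := fun hA =>
      Inv.cons hA fun _ h => absurd h List.not_mem_nil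
    have e1 : inum k [H] ((Coh.push j).obj (Coh.structureModule W)) = inumOn k j [H] :=
      inum_push k j (hl hH) _ (InvBasic.isQuasicoherent_structureModule _)
    have e2 : inum k [CohB1.tensorMod G H] ((Coh.push j).obj (Coh.structureModule W)) = inumOn k j [CohB1.tensorMod G H] :=
      inum_push k j (hl (isInvertible_tensorMod hG hH)) _ (InvBasic.isQuasicoherent_structureModule _)
    rw [← e1, ← e2]
    simp only [inum]
    obtain ⟨a⟩ := nonempty_assoc ((Coh.push j).obj (Coh.structureModule W)) hH hG
    obtain ⟨c⟩ := ProjTwist.nonempty_tensorMod_comm G H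
    rw [euler_congr (k := k) ((ProjTwist.nonempty_tensorMod_iso (Iso.refl _) c).some ≪≫ a),
      h (HilbPoly.isCoh_tensorMod hO hH)]
  exact ⟨gen (isInvertible_tensorPow hL m) (euler_tensor_pow_of_tau k hL hτ m),
    gen (isInvertible_tensorPow (NegVanish.isInvertible_of_inverse hL hLL') m) (euler_tensor_inv_of_tau k hL hLL' hτ m)⟩

end Groth.Agent.PicTau
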